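import Groth.Prelude.Def_AlgGrp
import Groth.Agent.Books.AntiAffine
import Mathlib.AlgebraicGeometry.Morphisms.FlatMono
import Mathlib.AlgebraicGeometry.Morphisms.FiniteType

/-!
# Basic facts on products over a field (helper396)
-/

set_option autoImplicit false

universe u

open CategoryTheory MonoidalCategory CartesianMonoidalCategory MonObj GrpObj AlgebraicGeometry Limits

namespace K396.Basic

section cat

variable {C : Type*} [Category* C] [CartesianMonoidalCategory C]

theorem isPullback_tensor (X Y : C) : IsPullback (fst X Y) (snd X Y) (toUnit X) (toUnit Y) := by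
  refine ⟨⟨toUnit_unique _ _⟩, ⟨PullbackCone.IsLimit.mk _ (fun s => lift s.fst s.snd)
    (fun s => lift_fst _ _) (fun s => lift_snd _ _) (fun s m h1 h2 => ?_)⟩⟩
  apply CartesianMonoidalCategory.hom_ext
  · rw [h1, lift_fst]
  · rw [h2, lift_snd]

theorem isPullback_whiskerLeft (Z : C) {X Y : C} (f : X ⟶ Y) :
    IsPullback (Z ◁ f) (snd Z X) (snd Z Y) f := by
  refine ⟨⟨by simp⟩, ⟨PullbackCone.IsLimit.mk _ (fun s => lift (s.fst ≫ fst _ _) s.snd) ?_ ?_ ?_⟩⟩
  · intro s
    have h := s.condition
    apply CartesianMonoidalCategory.hom_ext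
    · simp
    · simp [h]
  · intro s; simp
  · intro s m h1 h2
    apply CartesianMonoidalCategory.hom_ext
    · simp [← h1]
    · simp [← h2]

end cat

section over

variable {S : Scheme.{u}}

theorem isPullback_left (X Y : Over S) :
    IsPullback (fst X Y).left (snd X Y).left X.hom Y.hom :=
  IsPullback.of_hasPullback X.hom Y.hom

theorem snd_left_of (P : MorphismProperty Scheme.{u}) [P.IsStableUnderBaseChange] (X Y : Over S)
    (h : P X.hom) : P (snd X Y).left :=
  MorphismProperty.of_isPullback (isPullback_left X Y) h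

theorem fst_left_of (P : MorphismProperty Scheme.{u}) [P.IsStableUnderBaseChange] (X Y : Over S)
    (h : P Y.hom) : P (fst X Y).left :=
  MorphismProperty.of_isPullback (isPullback_left X Y).flip h

theorem tensor_hom (X Y : Over S) : (X ⊗ Y).hom = (snd X Y).left ≫ Y.hom := (Over.w _).symm

instance flat_snd (X Y : Over S) [Flat X.hom] : Flat (snd X Y).left := snd_left_of @Flat X Y ‹_›
instance flat_fst (X Y : Over S) [Flat Y.hom] : Flat (fst X Y).left := fst_left_of @Flat X Y ‹_›
instance surjective_snd (X Y : Over S) [Surjective X.hom] : Surjective (snd X Y).left :=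
  snd_left_of @Surjective X Y ‹_›
instance surjective_fst (X Y : Over S) [Surjective Y.hom] : Surjective (fst X Y).left :=
  fst_left_of @Surjective X Y ‹_›
instance qc_snd (X Y : Over S) [QuasiCompact X.hom] : QuasiCompact (snd X Y).left :=
  snd_left_of @QuasiCompact X Y ‹_›
instance qc_fst (X Y : Over S) [QuasiCompact Y.hom] : QuasiCompact (fst X Y).left :=
  fst_left_of @QuasiCompact X Y ‹_›
instance lft_snd (X Y : Over S) [LocallyOfFiniteType X.hom] : LocallyOfFiniteType (snd X Y).left :=
  snd_left_of @LocallyOfFiniteType X Y ‹_›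
instance lft_fst (X Y : Over S) [LocallyOfFiniteType Y.hom] : LocallyOfFiniteType (fst X Y).left :=
  fst_left_of @LocallyOfFiniteType X Y ‹_›
instance smooth_snd (X Y : Over S) [Smooth X.hom] : Smooth (snd X Y).left := snd_left_of @Smooth X Y ‹_›
instance smooth_fst (X Y : Over S) [Smooth Y.hom] : Smooth (fst X Y).left := fst_left_of @Smooth X Y ‹_›

instance qc_tensor (X Y : Over S) [QuasiCompact X.hom] [QuasiCompact Y.hom] : QuasiCompact (X ⊗ Y).hom := by
  rw [tensor_hom]; infer_instance
instance lft_tensor (X Y : Over S) [LocallyOfFiniteType X.hom] [LocallyOfFiniteType Y.hom] :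
    LocallyOfFiniteType (X ⊗ Y).hom := by
  rw [tensor_hom]; infer_instance

theorem qc_left {X Y : Over S} (f : X ⟶ Y) [QuasiCompact X.hom] [QuasiSeparated Y.hom] :
    QuasiCompact f.left := by
  have : QuasiCompact (f.left ≫ Y.hom) := by rw [Over.w]; infer_instance
  exact QuasiCompact.of_comp f.left Y.hom

theorem lft_left {X Y : Over S} (f : X ⟶ Y) [LocallyOfFiniteType X.hom] : LocallyOfFiniteType f.left := by
  have : LocallyOfFiniteType (f.left ≫ Y.hom) := by rw [Over.w]; infer_instance
  exact locallyOfFiniteType_of_comp f.left Y.hom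

theorem isIso_of_left {X Y : Over S} (f : X ⟶ Y) (h : IsIso f.left) : IsIso f := by
  have : IsIso ((Over.forget S).map f) := h
  exact isIso_of_reflects_iso f (Over.forget S)

theorem isIso_left {X Y : Over S} (f : X ⟶ Y) (h : IsIso f) : IsIso f.left :=
  inferInstanceAs (IsIso ((Over.forget S).map f))

/-- A quasi-compact flat surjective monomorphism is an isomorphism. -/
theorem isIso_of_mono_flat_surjective {X Y : Over S} (f : X ⟶ Y) [Mono f] [Flat f.left] [Surjective f.left]
    [QuasiCompact f.left] : IsIso f := by
  have : Mono f.left := inferInstance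
  exact isIso_of_left f (Flat.isIso_of_surjective_of_mono f.left)

/-- Descent of isomorphisms. -/
theorem isIso_of_whiskerLeft (Z : Over S) {X Y : Over S} (f : X ⟶ Y) [Flat Z.hom] [Surjective Z.hom]
    [QuasiCompact Z.hom] (h : IsIso (Z ◁ f)) : IsIso f := by
  have h1 := (isPullback_whiskerLeft Z f).map (Over.forget S)
  have h2 : IsIso (Z ◁ f).left := isIso_left _ h
  have h3 : IsIso f.left :=
    MorphismProperty.of_isPullback_of_descendsAlong (P := MorphismProperty.isomorphisms Scheme.{u})
      (Q := @Surjective ⊓ @Flat ⊓ @QuasiCompact) h1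
      ⟨⟨inferInstanceAs (Surjective (snd Z Y).left), inferInstanceAs (Flat (snd Z Y).left)⟩,
        inferInstanceAs (QuasiCompact (snd Z Y).left)⟩ h2
  exact isIso_of_left f h3

end over

section field

variable {k : Type u} [Field k]

instance flat_hom (X : Over (Spec (CommRingCat.of k))) : Flat X.hom := inferInstance

theorem isSeparated_hom (G : Over (Spec (CommRingCat.of k))) [GrpObj G] : IsSeparated G.hom :=
  Groth.Agent.Books.AntiAffine.isSeparated_hom G

instance surjective_hom (G : Over (Spec (CommRingCat.of k))) [GrpObj G] : Surjective G.hom := by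
  let e : Spec (CommRingCat.of k) ⟶ G.left := (η[G] : 𝟙_ (Over (Spec (CommRingCat.of k))) ⟶ G).left
  have h : e ≫ G.hom = 𝟙 _ := Over.w η[G]
  have : Surjective (e ≫ G.hom) := by
    rw [h]; infer_instance
  exact Surjective.of_comp e G.hom

/-- If the unit section of a group scheme `P` over a field is an open immersion, then every
morphism to `P` is flat. -/
theorem flat_of_isOpenImmersion_unit {X P : Over (Spec (CommRingCat.of k))} [GrpObj P] (f : X ⟶ P)
    (h : IsOpenImmersion (η[P] : 𝟙_ (Over (Spec (CommRingCat.of k))) ⟶ P).left) : Flat f.left := by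
  have h1 := (Groth.Agent.Books.AntiAffine.isPullback_diag P).map (Over.forget _)
  have h2 : IsOpenImmersion (lift (𝟙 P) (𝟙 P)).left :=
    MorphismProperty.of_isPullback (P := @IsOpenImmersion) h1.flip h
  have h3 : IsPullback (lift (𝟙 X) f) f (f ▷ P) (lift (𝟙 P) (𝟙 P)) := by
    refine ⟨⟨?_⟩, ⟨PullbackCone.IsLimit.mk _ (fun s => s.fst ≫ fst _ _) ?_ ?_ ?_⟩⟩
    · apply CartesianMonoidalCategory.hom_ext <;> simp
    · intro s
      have e1 := congrArg (· ≫ fst P P) s.condition
      have e2 := congrArg (· ≫ snd P P) s.condition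
      simp only [Category.assoc, whiskerRight_fst, whiskerRight_snd, lift_fst, lift_snd,
        Category.comp_id] at e1 e2
      apply CartesianMonoidalCategory.hom_ext
      · simp
      · simp only [Category.assoc, lift_snd, e1, e2]
    · intro s
      have e1 := congrArg (· ≫ fst P P) s.condition
      simp only [Category.assoc, whiskerRight_fst, lift_fst, Category.comp_id] at e1
      rw [Category.assoc, e1]
    · intro s m h1 h2
      rw [← h1, Category.assoc, lift_fst, Category.comp_id]
  have h4 : IsOpenImmersion (lift (𝟙 X) f).left :=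
    MorphismProperty.of_isPullback (P := @IsOpenImmersion) (h3.map (Over.forget _)).flip h2
  have h5 : f = lift (𝟙 X) f ≫ snd X P := by simp
  rw [h5, Over.comp_left]
  infer_instance

end field

end K396.Basic
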