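import Groth.Agent.S4141
import Groth.Agent.AbVar.K510.TateHom
import Groth.Agent.AlgGrp.K414.RosQ
import Groth.Agent.AlgGrp.K399.Basic
import Groth.Agent.Sga3B.RedIdComp
import Groth.Agent.AlgGrp.K411.Bc
import Groth.Agent.Sga3C.GrpIrr
import Groth.Agent.Books.AntiAffine
import Groth.Agent.Etcore.SmoothRed

/-!
# Homomorphisms from anti-affine groups to smooth connected groups
-/

set_option autoImplicit false
universe u
open CategoryTheory MonoidalCategory CartesianMonoidalCategory MonObj GrpObj AlgebraicGeometry CategoryTheory.Limits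

namespace K396.AntiHom

open Groth.Agent

variable {K : Type u} [Field K]

theorem isCommMonObj_of_proper (A : Over (Spec (CommRingCat.of K))) [GrpObj A] [IsProper A.hom] [Smooth A.hom]
    [ConnectedSpace A.left] : IsCommMonObj A := by
  have h1 := K399.Basic.isIso_appTop_of_group A
  have h2 : QuasiCompact A.hom := inferInstance
  have h3 : LocallyOfFiniteType A.hom := inferInstance
  exact (Groth.Agent.S3293.result K A (K398.AntiAff.bijective_of_isIso h1)).2

theorem exists_hom [IsAlgClosed K] (G H : Over (Spec (CommRingCat.of K))) [GrpObj G] [GrpObj H] [Smooth G.hom]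
    [QuasiCompact G.hom] [IsIso G.hom.appTop] [Smooth H.hom] [QuasiCompact H.hom] [ConnectedSpace H.left] :
    ∃ (E : Type u) (_ : AddCommGroup E) (ψ : (G ⟶ H) → E), Module.Finite ℤ E ∧ IsAddTorsionFree E ∧
      (∀ f g : G ⟶ H, IsMonHom f → IsMonHom g → IsMonHom (f * g) → ψ (f * g) = ψ f + ψ g) ∧
      ∀ f g : G ⟶ H, IsMonHom f → IsMonHom g → ψ f = ψ g → f = g := by
  have hGc : ConnectedSpace G.left := Books.AntiAffine.connectedSpace_left G
  have hpf : PerfectField K := inferInstance
  obtain ⟨L, _, l, A, _, α, hl, hlc, hLa, hLs, hLc, hln, hα, hαs, hαf, hk, hAp, hAs, hAc, -⟩ :=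
    Groth.Agent.S4141.result K G
  obtain ⟨L', _, l', B, _, β, hl', hlc', hLa', hLs', hLc', hln', hβ, hβs, hβf, hk', hBp, hBs, hBc, -⟩ :=
    Groth.Agent.S4141.result K H
  have hAcomm := isCommMonObj_of_proper A
  have hBcomm := isCommMonObj_of_proper B
  have hAg := K399.Basic.geometricallyIntegral A
  have hBg := K399.Basic.geometricallyIntegral B
  have hcov : Groth.Agent.Sga3.H739.Fpqc.Cov α := K395.CovKit.cov_of α
  have key : ∀ f : G ⟶ H, IsMonHom f → ∃ φ : EndAV.Hom A B, α ≫ φ.toHom = f ≫ β := by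
    intro f hf
    have h1 : l ≫ (f ≫ β) = 1 := Sga3.H821.AffProper.hom_eq_one K L B (l ≫ (f ≫ β))
    obtain ⟨φ, hφ, hφ'⟩ := K414.Kit.exists_desc l α hcov hk (f ≫ β) h1
    exact ⟨EndAV.Hom.of φ, hφ'⟩
  classical
  let ψ : (G ⟶ H) → EndAV.Hom A B := fun f => if h : IsMonHom f then (key f h).choose else 0
  have hψ : ∀ f : G ⟶ H, IsMonHom f → α ≫ (ψ f).toHom = f ≫ β := by
    intro f hf
    have e : ψ f = (key f hf).choose := dif_pos hf
    rw [e]
    exact (key f hf).choose_spec
  refine ⟨EndAV.Hom A B, inferInstance, ψ, K510.TateHom.finite_hom A B, inferInstance, ?_, ?_⟩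
  · intro f g hf hg hfg
    apply EndAV.Hom.ext
    apply hcov.cancel
    rw [hψ (f * g) hfg, EndAV.Hom.toHom_add, MonObj.comp_mul, MonObj.mul_comp, hψ f hf, hψ g hg]
  · intro f g hf hg hfg
    have h1 : (f * g⁻¹) ≫ β = 1 := by
      rw [MonObj.mul_comp, GrpObj.inv_comp, ← hψ f hf, ← hψ g hg, hfg, mul_inv_cancel]
    obtain ⟨x, hx⟩ := K395.Pts.exists_of_comp_eq_one hk' (f * g⁻¹) h1
    have h2 := K398.AntiAff.eq_const η[G] x
    have h3 : f * g⁻¹ = 1 := by
      rw [← hx, h2, Category.assoc, Category.assoc, hx, MonObj.comp_mul, GrpObj.comp_inv]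
      have e1 : η[G] ≫ f = η[H] := IsMonHom.one_hom f
      have e2 : η[G] ≫ g = η[H] := IsMonHom.one_hom g
      rw [e1, e2, mul_inv_cancel]
      exact MonObj.comp_one _
    rwa [mul_inv_eq_one] at h3

theorem isMonHom_of_mono {S : Scheme.{u}} {F G' H' : Over S} [GrpObj F] [GrpObj G'] [GrpObj H'] (f : F ⟶ G')
    (g : G' ⟶ H') [IsMonHom g] [Mono g] (h : IsMonHom (f ≫ g)) : IsMonHom f where
  one_hom := by
    rw [← cancel_mono g, Category.assoc, IsMonHom.one_hom, IsMonHom.one_hom]
  mul_hom := by
    have e1 := IsMonHom.mul_hom (f ≫ g)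
    rw [← cancel_mono g, Category.assoc, e1, Category.assoc, IsMonHom.mul_hom]
    simp

/-- A morphism from a reduced scheme factors through a surjective closed immersion. -/
theorem exists_fac_of_reduced {S : Scheme.{u}} {X Z Y : Over S} (u : Z ⟶ Y) [IsClosedImmersion u.left]
    [Surjective u.left] [IsReduced X.left] (f : X ⟶ Y) : ∃ f' : X ⟶ Z, f' ≫ u = f := by
  have h1 : IsPullback (pullback.fst f u) (pullback.snd f u) f u := IsPullback.of_hasPullback f u
  have h2 := h1.map (Over.forget S)
  have h3 : IsClosedImmersion (pullback.fst f u).left :=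
    MorphismProperty.of_isPullback (P := @IsClosedImmersion) h2.flip ‹_›
  have h4 : Surjective (pullback.fst f u).left :=
    MorphismProperty.of_isPullback (P := @Surjective) h2.flip ‹_›
  have h5 : IsIso (pullback.fst f u).left := isIso_of_isClosedImmersion_of_surjective _
  have h6 : IsIso (pullback.fst f u) := by
    have : IsIso ((Over.forget S).map (pullback.fst f u)) := h5
    exact isIso_of_reflects_iso _ (Over.forget S)
  exact ⟨inv (pullback.fst f u) ≫ pullback.snd f u, by
    rw [Category.assoc, ← pullback.condition, IsIso.inv_hom_id_assoc]⟩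

theorem exists_hom_field {k : Type u} [Field k] (G H : Over (Spec (CommRingCat.of k))) [GrpObj G] [GrpObj H]
    [Smooth G.hom] [QuasiCompact G.hom] [IsIso G.hom.appTop] [LocallyOfFiniteType H.hom] [QuasiCompact H.hom]
    [ConnectedSpace H.left] :
    ∃ (E : Type u) (_ : AddCommGroup E) (ψ : (G ⟶ H) → E), Module.Finite ℤ E ∧ IsAddTorsionFree E ∧
      (∀ f g : G ⟶ H, IsMonHom f → IsMonHom g → IsMonHom (f * g) → ψ (f * g) = ψ f + ψ g) ∧
      ∀ f g : G ⟶ H, IsMonHom f → IsMonHom g → ψ f = ψ g → f = g := by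
  let K := AlgebraicClosure k
  let c : Spec (CommRingCat.of K) ⟶ Spec (CommRingCat.of k) := Spec.map (CommRingCat.ofHom (algebraMap k K))
  have hGs : Smooth (Red.bc c G).hom := inferInstanceAs (Smooth (pullback.snd G.hom c))
  have hGq : QuasiCompact (Red.bc c G).hom := inferInstanceAs (QuasiCompact (pullback.snd G.hom c))
  have hGi : IsIso (Red.bc c G).hom.appTop := Books.AntiAffine.isIso_snd_appTop G c
  have hHf : LocallyOfFiniteType (Red.bc c H).hom := inferInstanceAs (LocallyOfFiniteType (pullback.snd H.hom c))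
  have hHq : QuasiCompact (Red.bc c H).hom := inferInstanceAs (QuasiCompact (pullback.snd H.hom c))
  have hHgi : GeometricallyIrreducible H.hom := by
    have : GrpObj (Over.mk H.hom) := inferInstanceAs (GrpObj H)
    exact Sga3C.GrpIrr.geometricallyIrreducible_of_connectedSpace H.hom
  have hHc : ConnectedSpace (Red.bc c H).left := Groth.Agent.AlgGrp.K411.Bc.connectedSpace_bc c H
  obtain ⟨U, _, u, hu, huc, hUs, hUc, hur⟩ := Sga3B.RedIdComp.exists_redIdComp (Red.bc c H)
  have hus : Surjective u.left := ⟨fun x => by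
    have h1 : x ∈ Set.range u.left := by
      rw [hur, PreconnectedSpace.connectedComponent_eq_univ]
      trivial
    exact h1⟩
  have hUq : QuasiCompact U.hom := by rw [← Over.w u]; infer_instance
  have hum : Mono u := K414.Kit.mono_of_closed u
  have hGr : IsReduced (Red.bc c G).left := Etcore.SmoothRed.isReduced_of_smooth (Red.bc c G).hom
  obtain ⟨E, _, ψ, hE1, hE2, hE3, hE4⟩ := exists_hom (Red.bc c G) U
  have key : ∀ f : G ⟶ H, ∃ f' : Red.bc c G ⟶ U, f' ≫ u = (Over.pullback c).map f := fun f =>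
    exists_fac_of_reduced u _
  choose F hF using key
  have hFm : ∀ f : G ⟶ H, IsMonHom f → IsMonHom (F f) := by
    intro f hf
    have h1 : IsMonHom ((Over.pullback c).map f) := inferInstance
    exact isMonHom_of_mono (F f) u (by rw [hF]; exact h1)
  have hFmul : ∀ f g : G ⟶ H, F (f * g) = F f * F g := by
    intro f g
    rw [← cancel_mono u, hF, MonObj.mul_comp, hF, hF]
    exact Functor.map_mul _ f g
  refine ⟨E, inferInstance, fun f => ψ (F f), hE1, hE2, ?_, ?_⟩
  · intro f g hf hg hfg
    have h1 := hFm (f * g) hfg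
    rw [hFmul] at h1
    simp only [hFmul]
    exact hE3 (F f) (F g) (hFm f hf) (hFm g hg) h1
  · intro f g hf hg hfg
    have h1 := hE4 (F f) (F g) (hFm f hf) (hFm g hg) hfg
    have h2 : (Over.pullback c).map f = (Over.pullback c).map g := by rw [← hF, ← hF, h1]
    have h3 := (Groth.Agent.AlgGrp.K411.Bc.isPullback_map_left c f).w
    have h4 := (Groth.Agent.AlgGrp.K411.Bc.isPullback_map_left c g).w
    rw [h2] at h3
    have h5 : Flat (pullback.fst G.hom c) := inferInstance
    have h6 : Surjective c := inferInstance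
    have h7 : Surjective (pullback.fst G.hom c) := inferInstance
    have h8 : Epi (pullback.fst G.hom c) := Flat.epi_of_flat_of_surjective _
    ext1
    rw [← cancel_epi (pullback.fst G.hom c), h3, h4]

end K396.AntiHom
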