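import Groth.Agent.VarietyA.GeomRedSch
import Groth.Agent.AlgGrp.K406.SepPts
import Groth.Agent.Books.AlgPtsGrp

/-!
# Density of `K`-points, `K` separably closed, on geometrically reduced schemes (helper396)
-/

set_option autoImplicit false
universe u
open CategoryTheory MonoidalCategory CartesianMonoidalCategory MonObj GrpObj AlgebraicGeometry Limits Topology

namespace K396.SepClPts

/-- `Spec K` over `Spec k`. -/
noncomputable abbrev KK (k K : Type u) [Field k] [Field K] [Algebra k K] : Over (Spec (CommRingCat.of k)) :=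
  Over.mk (Spec.map (CommRingCat.ofHom (algebraMap k K)))

variable {k K : Type u} [Field k] [Field K] [Algebra k K] [IsSepClosed K]

/-- Every nonempty open subset of a geometrically reduced `k`-scheme locally of finite type contains a `K`-point. -/
theorem exists_point {Z : Over (Spec (CommRingCat.of k))} [LocallyOfFiniteType Z.hom] [GeometricallyReduced Z.hom]
    (U : Z.left.Opens) (hU : (U : Set Z.left).Nonempty) : ∃ z : KK k K ⟶ Z, ∀ a, z.left a ∈ U := by
  have hlfp : LocallyOfFinitePresentation Z.hom := inferInstance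
  have hd := Groth.Agent.VarietyA.GeomRedSch.dense_smoothLocus k Z.hom
  let V : Z.left.Opens := U ⊓ Z.hom.smoothLocus
  have hV : (V : Set Z.left).Nonempty := by
    obtain ⟨x, hx, hx'⟩ := hd.inter_open_nonempty U U.2 hU
    exact ⟨x, hx, hx'⟩
  have hsm : Smooth (V.ι ≫ Z.hom) := by
    rw [← Scheme.Hom.smoothLocus_eq_top_iff, ← Scheme.Hom.preimage_smoothLocus_eq]
    rw [eq_top_iff]
    intro x _
    exact x.2.2
  have hne : Nonempty V := hV.to_subtype
  obtain ⟨p, hp⟩ := K406.SepPts.exists_point k K (V.ι ≫ Z.hom)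
  refine ⟨Over.homMk (p ≫ V.ι) (by rw [Category.assoc, hp]; rfl), fun a => ?_⟩
  change (p ≫ V.ι) a ∈ U
  rw [Scheme.Hom.comp_apply]
  exact (p a).2.1

/-- A morphism from a geometrically reduced scheme which maps all `K`-points into a closed subscheme factors
through it. -/
theorem exists_factor {Z X Y : Over (Spec (CommRingCat.of k))} [LocallyOfFiniteType Z.hom]
    [GeometricallyReduced Z.hom] (c : Z ⟶ X) (j : Y ⟶ X) [IsClosedImmersion j.left]
    (h : ∀ z : KK k K ⟶ Z, ∃ y : KK k K ⟶ Y, y ≫ j = z ≫ c) : ∃ e : Z ⟶ Y, e ≫ j = c := by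
  have hred : IsReduced Z.left := GeometricallyReduced.isReduced_of_flat_of_isLocallyNoetherian Z.hom
  refine Groth.Agent.Books.AlgPtsGrp.exists_lift j c ?_
  by_contra hcon
  have hF : IsClosed (c.left ⁻¹' Set.range j.left) :=
    j.left.isClosedEmbedding.isClosed_range.preimage c.left.continuous
  have hne : ((c.left ⁻¹' Set.range j.left)ᶜ).Nonempty := by
    by_contra h0
    rw [Set.not_nonempty_iff_eq_empty, Set.compl_empty_iff] at h0
    refine hcon ?_
    rintro _ ⟨z, rfl⟩
    have : z ∈ c.left ⁻¹' Set.range j.left := by rw [h0]; trivial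
    exact this
  obtain ⟨z, hz⟩ := exists_point (k := k) (K := K) (Z := Z) ⟨_, hF.isOpen_compl⟩ hne
  obtain ⟨y, hy⟩ := h z
  have a : (KK k K).left := IsLocalRing.closedPoint K
  refine hz a ⟨y.left a, ?_⟩
  change (y ≫ j).left a = (z ≫ c).left a
  rw [hy]

end K396.SepClPts
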